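import Mathlib

/-! Counting commuting pairs whose first or second member is a `π`-element. -/

set_option autoImplicit false

namespace Cfsg.Agent.Lib.PiClass

open Finset

variable {G : Type*} [Group G]

/-- All prime divisors of the order lie in `π`. -/
def PiEl (π : Set ℕ) (x : G) : Prop := ∀ q : ℕ, q.Prime → q ∣ orderOf x → q ∈ π

theorem piEl_of_dvd {π : Set ℕ} {x : G} {H : Type*} [Monoid H] {y : H} (h : orderOf y ∣ orderOf x)
    (hx : PiEl π x) : ∀ q : ℕ, q.Prime → q ∣ orderOf y → q ∈ π :=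
  fun q hq hd => hx q hq (hd.trans h)

theorem piEl_one (π : Set ℕ) : PiEl π (1 : G) := fun q hq hd => by
  rw [orderOf_one, Nat.dvd_one] at hd
  exact absurd hd hq.ne_one

theorem PiEl.inv {π : Set ℕ} {x : G} (h : PiEl π x) : PiEl π x⁻¹ :=
  piEl_of_dvd (orderOf_inv x).dvd h

theorem PiEl.mul {π : Set ℕ} {x y : G} (hc : Commute x y) (hx : PiEl π x) (hy : PiEl π y) :
    PiEl π (x * y) := fun q hq hd =>
  (hq.dvd_mul.mp (hd.trans hc.orderOf_mul_dvd_mul_orderOf)).elim (hx q hq) (hy q hq)

theorem eq_one_of_piEl {π : Set ℕ} {x : G} (h : PiEl π x) (h' : PiEl πᶜ x) : x = 1 := by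
  by_contra hne
  obtain ⟨q, hq, hd⟩ := Nat.exists_prime_and_dvd (mt orderOf_eq_one_iff.mp hne)
  exact h' q hq hd (h q hq hd)

variable [Finite G]

theorem exists_pi_parts (π : Set ℕ) (x : G) :
    ∃ u z : G, u * z = x ∧ u ∈ Subgroup.zpowers x ∧ z ∈ Subgroup.zpowers x ∧ PiEl π u ∧ PiEl πᶜ z := by
  classical
  set n := orderOf x with hn
  have hn0 : n ≠ 0 := (orderOf_pos x).ne'
  set a := ∏ p ∈ n.primeFactors with p ∈ π, p ^ n.factorization p with ha
  set b := ∏ p ∈ n.primeFactors with p ∉ π, p ^ n.factorization p with hb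
  have hab : a * b = n := by
    rw [ha, hb, Finset.prod_filter_mul_prod_filter_not, ← Nat.prod_factorization_eq_prod_primeFactors,
      Nat.prod_factorization_pow_eq_self hn0]
  have key : ∀ (P : ℕ → Prop) [DecidablePred P] (q : ℕ), q.Prime →
      q ∣ ∏ p ∈ n.primeFactors with P p, p ^ n.factorization p → P q := by
    intro P _ q hq hd
    obtain ⟨p, hp, hd⟩ := (hq.prime.dvd_finsetProd_iff _).mp hd
    rw [Finset.mem_filter] at hp
    rw [(Nat.prime_dvd_prime_iff_eq hq (Nat.prime_of_mem_primeFactors hp.1)).mp (hq.dvd_of_dvd_pow hd)]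
    exact hp.2
  have hco : a.Coprime b := Nat.coprime_of_dvd fun q hq hda hdb =>
    key (fun p => p ∉ π) q hq hdb (key (fun p => p ∈ π) q hq hda)
  have hone : (a : ℤ) * a.gcdA b + b * a.gcdB b = 1 := by
    rw [← Nat.gcd_eq_gcd_ab, hco.gcd_eq_one, Nat.cast_one]
  refine ⟨x ^ ((b : ℤ) * a.gcdB b), x ^ ((a : ℤ) * a.gcdA b), ?_, Subgroup.zpow_mem_zpowers x _,
    Subgroup.zpow_mem_zpowers x _, ?_, ?_⟩
  · rw [← zpow_add, add_comm, hone, zpow_one]
  · intro q hq hd
    refine key (fun p => p ∈ π) q hq (hd.trans (orderOf_dvd_of_pow_eq_one ?_))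
    rw [← zpow_natCast, ← zpow_mul, mul_comm, ← mul_assoc, ← Nat.cast_mul, ha.symm, hab, zpow_mul, zpow_natCast,
      hn, pow_orderOf_eq_one, one_zpow]
  · intro q hq hd
    refine key (fun p => p ∉ π) q hq (hd.trans (orderOf_dvd_of_pow_eq_one ?_))
    rw [← zpow_natCast, ← zpow_mul, mul_comm, ← mul_assoc, ← Nat.cast_mul, hb.symm, mul_comm b, hab, zpow_mul,
      zpow_natCast, hn, pow_orderOf_eq_one, one_zpow]

/-- The `π'`-part. -/
noncomputable def piC (π : Set ℕ) (x : G) : G := (exists_pi_parts π x).choose_spec.choose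

theorem piC_mem_zpowers (π : Set ℕ) (x : G) : piC π x ∈ Subgroup.zpowers x :=
  (exists_pi_parts π x).choose_spec.choose_spec.2.2.1

theorem piC_piEl (π : Set ℕ) (x : G) : PiEl πᶜ (piC π x) :=
  (exists_pi_parts π x).choose_spec.choose_spec.2.2.2.2

theorem commute_of_mem_zpowers {x y z : G} (hz : z ∈ Subgroup.zpowers x) (h : Commute x y) : Commute z y := by
  obtain ⟨i, rfl⟩ := Subgroup.mem_zpowers_iff.mp hz
  exact h.zpow_left i

theorem piC_mul_inv_piEl (π : Set ℕ) (x : G) : PiEl π (x * (piC π x)⁻¹) := by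
  obtain ⟨hm, -, -, hu, -⟩ := (exists_pi_parts π x).choose_spec.choose_spec
  have : x * (piC π x)⁻¹ = (exists_pi_parts π x).choose := by
    rw [mul_inv_eq_iff_eq_mul]; exact hm.symm
  rw [this]; exact hu

theorem piC_commute (π : Set ℕ) (x : G) : Commute (piC π x) x :=
  commute_of_mem_zpowers (piC_mem_zpowers π x) (Commute.refl x)

theorem piC_mul {π : Set ℕ} {u z : G} (hc : Commute u z) (hu : PiEl π u) (hz : PiEl πᶜ z) :
    piC π (u * z) = z := by
  set w := piC π (u * z) with hw
  have hwu : Commute w u := commute_of_mem_zpowers (piC_mem_zpowers π _) ((Commute.refl u).mul_left hc.symm)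
  have hwz : Commute w z := commute_of_mem_zpowers (piC_mem_zpowers π _) (hc.mul_left (Commute.refl z))
  have h1 : PiEl πᶜ (z * w⁻¹) := PiEl.mul hwz.symm.inv_right hz (piC_piEl π _).inv
  have h2 : PiEl π (z * w⁻¹) := by
    have : z * w⁻¹ = u⁻¹ * (u * z * w⁻¹) := by group
    rw [this]
    exact PiEl.mul (((Commute.refl u).mul_right hc).mul_right hwu.symm.inv_right).inv_left hu.inv (piC_mul_inv_piEl π _)
  exact (mul_inv_eq_one.mp (eq_one_of_piEl h2 h1)).symm

theorem piC_eq_self {π : Set ℕ} {z : G} (hz : PiEl πᶜ z) : piC π z = z := by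
  simpa using piC_mul (Commute.one_left z) (piEl_one π) hz

variable [Fintype G]

open Classical in
/-- Commuting pairs in `(t K) × K` satisfying a condition. -/
noncomputable def pairs (K : Subgroup G) (t : G) (P : G × G → Prop) : Finset (G × G) :=
  univ.filter fun p => t⁻¹ * p.1 ∈ K ∧ p.2 ∈ K ∧ Commute p.1 p.2 ∧ P p

theorem mem_pairs {K : Subgroup G} {t : G} {P : G × G → Prop} {p : G × G} :
    p ∈ pairs K t P ↔ t⁻¹ * p.1 ∈ K ∧ p.2 ∈ K ∧ Commute p.1 p.2 ∧ P p := by
  simp [pairs]

theorem pairs_pi_eq (π : Set ℕ) (K : Subgroup G) :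
    ∀ t : G, (∀ x, t⁻¹ * x ∈ K → piC π x ∈ K) →
      (pairs K t fun p => PiEl π p.1).card = (pairs K t fun p => PiEl π p.2).card := by
  classical
  induction h : Nat.card K using Nat.strong_induction_on generalizing K with
  | _ m ih =>
  subst h
  intro t ht
  set Z := univ.filter fun z : G => z ∈ K ∧ PiEl πᶜ z with hZ
  set X1 : G → Finset (G × G) := fun z => pairs K t fun p => PiEl π p.1 ∧ Commute z p.1 ∧ Commute z p.2 with hX1
  set X2 : G → Finset (G × G) := fun z => pairs K t fun p => PiEl π p.2 ∧ Commute z p.1 ∧ Commute z p.2 with hX2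
  have h1 : (pairs K t fun _ => True).card = ∑ z ∈ Z, (X1 z).card := by
    rw [Finset.card_eq_sum_card_fiberwise (f := fun p : G × G => piC π p.1) (t := Z) fun p hp => by
      simp only [Finset.mem_coe, mem_pairs] at hp
      simp only [hZ, Finset.coe_filter, Finset.mem_univ, true_and, Set.mem_ofPred_eq]
      exact ⟨ht _ hp.1, piC_piEl π _⟩]
    refine Finset.sum_congr rfl fun z hz => ?_
    simp only [hZ, Finset.mem_filter, Finset.mem_univ, true_and] at hz
    refine Finset.card_bij' (fun p _ => (p.1 * z⁻¹, p.2)) (fun p _ => (p.1 * z, p.2)) ?_ ?_ ?_ ?_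
    · intro p hp
      simp only [Finset.mem_filter, mem_pairs] at hp
      obtain ⟨⟨h1, h2, h3, -⟩, h4⟩ := hp
      subst h4
      have hzy : Commute (piC π p.1) p.2 := commute_of_mem_zpowers (piC_mem_zpowers π _) h3
      simp only [hX1, mem_pairs]
      exact ⟨by rw [← mul_assoc]; exact mul_mem h1 (inv_mem hz.1), h2, h3.mul_left hzy.inv_left,
        piC_mul_inv_piEl π _, (piC_commute π _).mul_right (Commute.refl _).inv_right, hzy⟩
    · intro p hp
      simp only [hX1, mem_pairs] at hp
      obtain ⟨h1, h2, h3, h4, h5, h6⟩ := hp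
      simp only [Finset.mem_filter, mem_pairs]
      exact ⟨⟨by rw [← mul_assoc]; exact mul_mem h1 hz.1, h2, h3.mul_left h6, trivial⟩,
        piC_mul h5.symm h4 hz.2⟩
    · intro p _; simp
    · intro p _; simp
  have h2 : (pairs K t fun _ => True).card = ∑ z ∈ Z, (X2 z).card := by
    rw [Finset.card_eq_sum_card_fiberwise (f := fun p : G × G => piC π p.2) (t := Z) fun p hp => by
      simp only [Finset.mem_coe, mem_pairs] at hp
      simp only [hZ, Finset.coe_filter, Finset.mem_univ, true_and, Set.mem_ofPred_eq]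
      exact ⟨(Subgroup.zpowers_le.mpr hp.2.1) (piC_mem_zpowers π _), piC_piEl π _⟩]
    refine Finset.sum_congr rfl fun z hz => ?_
    simp only [hZ, Finset.mem_filter, Finset.mem_univ, true_and] at hz
    refine Finset.card_bij' (fun p _ => (p.1, p.2 * z⁻¹)) (fun p _ => (p.1, p.2 * z)) ?_ ?_ ?_ ?_
    · intro p hp
      simp only [Finset.mem_filter, mem_pairs] at hp
      obtain ⟨⟨h1, h2, h3, -⟩, h4⟩ := hp
      subst h4
      have hzy : Commute (piC π p.2) p.1 := commute_of_mem_zpowers (piC_mem_zpowers π _) h3.symm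
      simp only [hX2, mem_pairs]
      exact ⟨h1, mul_mem h2 (inv_mem hz.1), h3.mul_right hzy.symm.inv_right,
        piC_mul_inv_piEl π _, hzy, (piC_commute π _).mul_right (Commute.refl _).inv_right⟩
    · intro p hp
      simp only [hX2, mem_pairs] at hp
      obtain ⟨h1, h2, h3, h4, h5, h6⟩ := hp
      simp only [Finset.mem_filter, mem_pairs]
      exact ⟨⟨h1, mul_mem h2 hz.1, h3.mul_right h5.symm, trivial⟩, piC_mul h6.symm h4 hz.2⟩
    · intro p _; simp
    · intro p _; simp
  by_contra hne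
  set A := (pairs K t fun p => PiEl π p.1).card with hA
  set B := (pairs K t fun p => PiEl π p.2).card with hB
  let w : G → ℤ := fun z => if K ≤ Subgroup.centralizer {z} ∧ Commute z t then 1 else 0
  have hterm : ∀ z ∈ Z, ((X1 z).card : ℤ) - (X2 z).card = w z * ((A : ℤ) - B) := by
    intro z hz
    simp only [hZ, Finset.mem_filter, Finset.mem_univ, true_and] at hz
    by_cases hK : K ≤ Subgroup.centralizer {z}
    · have hcy : ∀ y ∈ K, Commute z y := fun y hy => (Subgroup.mem_centralizer_singleton_iff.mp (hK hy)).symm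
      by_cases hzt : Commute z t
      · have hcx : ∀ x, t⁻¹ * x ∈ K → Commute z x := fun x hx => by
          simpa using hzt.mul_right (hcy _ hx)
        have e1 : X1 z = pairs K t fun p => PiEl π p.1 := by
          ext p; simp only [hX1, mem_pairs]
          exact ⟨fun ⟨a, b, c, d, _⟩ => ⟨a, b, c, d⟩, fun ⟨a, b, c, d⟩ => ⟨a, b, c, d, hcx _ a, hcy _ b⟩⟩
        have e2 : X2 z = pairs K t fun p => PiEl π p.2 := by
          ext p; simp only [hX2, mem_pairs]
          exact ⟨fun ⟨a, b, c, d, _⟩ => ⟨a, b, c, d⟩, fun ⟨a, b, c, d⟩ => ⟨a, b, c, d, hcx _ a, hcy _ b⟩⟩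
        simp only [w, if_pos (And.intro hK hzt), e1, e2, ← hA, ← hB, one_mul]
      · have hno : ∀ x, t⁻¹ * x ∈ K → ¬ Commute z x := fun x hx hc => hzt (by
          simpa using hc.mul_right (hcy _ hx).inv_right)
        have e1 : X1 z = ∅ := Finset.eq_empty_of_forall_notMem fun p hp => by
          simp only [hX1, mem_pairs] at hp; exact hno _ hp.1 hp.2.2.2.2.1
        have e2 : X2 z = ∅ := Finset.eq_empty_of_forall_notMem fun p hp => by
          simp only [hX2, mem_pairs] at hp; exact hno _ hp.1 hp.2.2.2.2.1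
        simp [w, hzt, e1, e2]
    · simp only [w, if_neg (fun h => hK h.1 : ¬ (K ≤ Subgroup.centralizer {z} ∧ Commute z t)), zero_mul, sub_eq_zero,
        Nat.cast_inj]
      by_cases hs : ∃ s, t⁻¹ * s ∈ K ∧ Commute z s
      · obtain ⟨s, hsK, hzs⟩ := hs
        set K' := K ⊓ Subgroup.centralizer {z} with hK'
        have hlt : Nat.card K' < Nat.card K := by
          refine lt_of_le_of_ne (Subgroup.card_le_of_le inf_le_left) fun he => hK ?_
          have := Subgroup.eq_of_le_of_card_ge inf_le_left he.ge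
          exact this ▸ inf_le_right
        have hmem : ∀ x, (t⁻¹ * x ∈ K ∧ Commute z x) ↔ s⁻¹ * x ∈ K' := fun x => by
          rw [hK', Subgroup.mem_inf, Subgroup.mem_centralizer_singleton_iff]
          constructor
          · rintro ⟨hx, hc⟩
            refine ⟨?_, (hzs.inv_right.mul_right hc).symm.eq⟩
            simpa [mul_assoc] using mul_mem (inv_mem hsK) hx
          · rintro ⟨hx, hc⟩
            refine ⟨by simpa [mul_assoc] using mul_mem hsK hx, ?_⟩
            simpa using hzs.mul_right (Commute.symm hc)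
        have hy : ∀ y, (y ∈ K ∧ Commute z y) ↔ y ∈ K' := fun y => by
          rw [hK', Subgroup.mem_inf, Subgroup.mem_centralizer_singleton_iff]
          exact and_congr_right fun _ => ⟨fun h => h.symm.eq, fun h => Commute.symm h⟩
        have e1 : X1 z = pairs K' s fun p => PiEl π p.1 := by
          ext p; simp only [hX1, mem_pairs, ← hmem, ← hy]
          tauto
        have e2 : X2 z = pairs K' s fun p => PiEl π p.2 := by
          ext p; simp only [hX2, mem_pairs, ← hmem, ← hy]
          tauto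
        rw [e1, e2]
        refine ih _ hlt K' rfl s fun x hx => ?_
        obtain ⟨hxK, hxz⟩ := (hmem x).mpr hx
        exact (hy _).mp ⟨ht x hxK, (commute_of_mem_zpowers (piC_mem_zpowers π x) hxz.symm).symm⟩
      · push Not at hs
        have e1 : X1 z = ∅ := Finset.eq_empty_of_forall_notMem fun p hp => by
          simp only [hX1, mem_pairs] at hp; exact hs _ hp.1 hp.2.2.2.2.1
        have e2 : X2 z = ∅ := Finset.eq_empty_of_forall_notMem fun p hp => by
          simp only [hX2, mem_pairs] at hp; exact hs _ hp.1 hp.2.2.2.2.1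
        rw [e1, e2]
  have hsum : (∑ z ∈ Z, w z) * ((A : ℤ) - B) = 0 := by
    rw [Finset.sum_mul, ← Finset.sum_congr rfl hterm, Finset.sum_sub_distrib, ← Nat.cast_sum, ← Nat.cast_sum, ← h1,
      ← h2, sub_self]
  have hpos : (0 : ℤ) < ∑ z ∈ Z, w z := by
    refine Finset.sum_pos' (fun z _ => by simp only [w]; split_ifs <;> norm_num) ⟨1, ?_, ?_⟩
    · simp only [hZ, Finset.mem_filter, Finset.mem_univ, true_and]
      exact ⟨one_mem _, piEl_one _⟩
    · have : K ≤ Subgroup.centralizer {(1 : G)} := fun y _ => Subgroup.mem_centralizer_singleton_iff.mpr (by simp)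
      simp [w, this]
  rcases mul_eq_zero.mp hsum with h | h <;> omega

open Classical in
/-- The class equation restricted to a conjugation invariant set. -/
theorem sum_card_centralizer (P : ConjClasses G → Prop) :
    ∑ x ∈ univ.filter (fun x : G => P (ConjClasses.mk x)), Nat.card (Subgroup.centralizer {x}) =
      Nat.card G * Nat.card {C : ConjClasses G // P C} := by
  have hclass : ∀ C : ConjClasses G, ∑ x ∈ univ.filter (fun x : G => ConjClasses.mk x = C),
      Nat.card (Subgroup.centralizer {x}) = Nat.card G := by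
    intro C
    obtain ⟨x₀, rfl⟩ := ConjClasses.mk_surjective C
    rw [Nat.card_eq_fintype_card (α := G), ← Finset.card_univ,
      Finset.card_eq_sum_card_fiberwise (f := fun y : G => y * x₀ * y⁻¹)
        (t := univ.filter (fun x : G => ConjClasses.mk x = ConjClasses.mk x₀)) fun y _ => by
          simp only [Finset.coe_filter, Finset.mem_univ, true_and, Set.mem_ofPred_eq, ConjClasses.mk_eq_mk_iff_isConj]
          exact (isConj_iff.mpr ⟨y, rfl⟩).symm]
    refine Finset.sum_congr rfl fun x hx => ?_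
    rw [Finset.mem_filter, ConjClasses.mk_eq_mk_iff_isConj] at hx
    obtain ⟨y₀, hy₀⟩ := isConj_iff.mp hx.2.symm
    rw [← Fintype.card_subtype, ← Nat.card_eq_fintype_card]
    have key : ∀ v : G, v * y₀⁻¹ * x * (v * y₀⁻¹)⁻¹ = v * x₀ * v⁻¹ := fun v => by rw [← hy₀]; group
    refine Nat.card_congr
      { toFun := fun c => ⟨(c : G) * y₀, ?_⟩
        invFun := fun y => ⟨(y : G) * y₀⁻¹, ?_⟩
        left_inv := fun c => Subtype.ext (by simp)
        right_inv := fun y => Subtype.ext (by simp) }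
    · have h := Subgroup.mem_centralizer_singleton_iff.mp c.2
      calc (c : G) * y₀ * x₀ * ((c : G) * y₀)⁻¹ = (c : G) * (y₀ * x₀ * y₀⁻¹) * (c : G)⁻¹ := by group
        _ = x := by rw [hy₀, h, mul_inv_cancel_right]
    · rw [Subgroup.mem_centralizer_singleton_iff, ← mul_inv_eq_iff_eq_mul]
      calc (y : G) * y₀⁻¹ * x * ((y : G) * y₀⁻¹)⁻¹ = (y : G) * x₀ * (y : G)⁻¹ := key _
        _ = x := y.2
  haveI := Fintype.ofFinite (ConjClasses G)
  rw [Nat.card_eq_fintype_card (α := {C : ConjClasses G // P C}), Fintype.card_subtype,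
    ← Finset.sum_fiberwise_of_maps_to (g := ConjClasses.mk) (t := univ.filter P) fun x hx => by
      simpa using (Finset.mem_filter.mp hx).2]
  rw [mul_comm, ← smul_eq_mul, ← Finset.sum_const]
  refine Finset.sum_congr rfl fun C hC => ?_
  rw [← hclass C, Finset.filter_filter]
  refine Finset.sum_congr (Finset.filter_congr fun x _ => ⟨fun h => h.2, fun h => ⟨h ▸ (Finset.mem_filter.mp hC).2, h⟩⟩)
    fun _ _ => rfl

theorem piEl_iff_class (π : Set ℕ) (x : G) :
    PiEl π x ↔ ∀ q : ℕ, q.Prime → (∃ g : G, ConjClasses.mk g = ConjClasses.mk x ∧ q ∣ orderOf g) → q ∈ π := by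
  refine ⟨fun h q hq ⟨g, hg, hd⟩ => ?_, fun h q hq hd => h q hq ⟨x, rfl, hd⟩⟩
  obtain ⟨y, hy⟩ := isConj_iff.mp (ConjClasses.mk_eq_mk_iff_isConj.mp hg)
  rw [PiEl, ← hy, ← MulAut.conj_apply, MulEquiv.orderOf_eq] at h
  exact h q hq hd

open Classical in
theorem sum_piEl (π : Set ℕ) :
    ∑ x ∈ univ.filter (fun x : G => PiEl π x), Nat.card (Subgroup.centralizer {x}) = Nat.card G *
      Nat.card {C : ConjClasses G // ∀ q : ℕ, q.Prime → (∃ g : G, ConjClasses.mk g = C ∧ q ∣ orderOf g) → q ∈ π} := by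
  rw [← sum_card_centralizer]
  exact Finset.sum_congr (Finset.filter_congr fun x _ => piEl_iff_class π x) fun _ _ => rfl

end Cfsg.Agent.Lib.PiClass
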